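import Cfsg.Agent.Lib.Spor.Co3Std.Defs

/-! Checks for standard subgroups that are double covers. -/

set_option autoImplicit false
set_option maxRecDepth 100000
set_option maxHeartbeats 4000000

namespace Cfsg.Agent.Spor.Co3Uniq

open Cos

theorem std_root_ok : ∀ i < 1024, chkRoot i = true := by
  refine of_blocks (size := 256) (b := 4) (by decide) (by decide) fun j hj => ?_
  interval_cases j <;> decide +kernel

theorem std_four_ok : ∀ i < 1024, chkFour i = true := by
  refine of_blocks (size := 256) (b := 4) (by decide) (by decide) fun j hj => ?_
  interval_cases j <;> decide +kernel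

theorem std_orb_ok : ∀ i < 630, chkOrb i = true := by
  refine of_blocks (size := 210) (b := 3) (by decide) (by decide) fun j hj => ?_
  interval_cases j <;> decide +kernel

theorem std_cu_ok : ∀ i < 4608, cuL.chk i = true := by
  refine of_blocks (size := 256) (b := 18) (by decide) (by decide) fun j hj => ?_
  interval_cases j <;> decide +kernel

theorem std_nine_ok : ∀ i < 4608, chkNine i = true := by
  refine of_blocks (size := 256) (b := 18) (by decide) (by decide) fun j hj => ?_
  interval_cases j <;> decide +kernel

theorem std_cert_ok : ((List.range 4).all chkCert) = true := by decide +kernel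

theorem std_facts : eqC [swC, u1C] [u1C, tCode, swC] = true ∧ eqC [h1C, h1C, h1C] [] = true ∧
    eqC [h2C, h2C, h2C] [] = true ∧ eqC [h1C, h2C] [h2C, h1C] = true ∧ eqC [h1C, u1C] [u1C, h1C] = true ∧
    eqC [h2C, u1C] [u1C, h2C] = true ∧ ((List.range 4).all fun j => neC (yL.getD j []) []) = true ∧
    (cuGen.all fun N => eqC [N, u1C] [u1C, N]) = true := by
  decide +kernel

end Cfsg.Agent.Spor.Co3Uniq
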