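import Cfsg.Agent.Lib.Spor.Co3Uniq.FusDefs
import Cfsg.Agent.Lib.Spor.Co3Std.Data

/-! The checks for standard subgroups that are double covers. -/

set_option autoImplicit false

namespace Cfsg.Agent.Spor.Co3Uniq

open Cos

/-- The centraliser of the conjugate as a list. -/
def cuL : LG := ⟨4608, cuN, cuGen, cuStep, cuPar⟩

/-- An element with square in the centre of the cover commutes with a fourth root of the involution. -/
noncomputable def chkRoot (i : ℕ) : Bool :=
  force (sylL.code.at i) fun N => force (rW.at i) fun w =>
    Nat.beq i 0 || Nat.beq N tCode || (neC [N, N] [] && neC [N, N] [tCode]) ||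
      (eqC [w, N] [N, w] && eqC [w, w, w, w] [tCode])

/-- A fourth power is central or a conjugate of the first conjugate. -/
noncomputable def chkFour (i : ℕ) : Bool :=
  force (sylL.code.at i) fun N => force (rF.at i) fun c =>
    eqC [N, N, N, N] [] || eqC [N, N, N, N] [tCode] || eqC [N, N, N, N, c] [c, u1C]

/-- The conjugates of the first conjugate are distinct. -/
noncomputable def chkOrb (j : ℕ) : Bool :=
  force (oC.at j) fun c => force (oV.at j) fun v =>
    eqC [c, u1C] [v, c] && (Nat.beq j 0 || Nat.blt (oV.at (j - 1)) v)

/-- The products that are the identity, the involution, the conjugate or its translate. -/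
noncomputable def isFour (L : List ℕ) : Bool :=
  eqC L [] || eqC L [tCode] || eqC L [u1C] || eqC L [u1C, tCode]

/-- An element of two-power order centralising the subgroup of order nine is one of four. -/
noncomputable def chkNine (i : ℕ) : Bool :=
  force (cuL.code.at i) fun N =>
    (neC [N, h1C] [h1C, N] || neC [N, h2C] [h2C, N] || isFour [N, N, N, N, N, N, N, N, N]) &&
      (neC [N, swC, h1C] [h1C, N, swC] || neC [N, swC, h2C] [h2C, N, swC] ||
        isFour [N, swC, N, swC, N, swC, N, swC, N, swC, N, swC, N, swC, N, swC, N, swC])

/-- The generators of the four subgroups of order three. -/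
def yL : List (List ℕ) := [[h1C], [h2C], [h1C, h2C], [h1C, h2C, h2C]]

/-- A product of conjugates equals the involution. -/
noncomputable def chkCert (j : ℕ) : Bool :=
  ((certL.getD j []).all fun x => eqC [x.1, x.2] [] && eqC [x.1, u1C] [u1C, x.1]) &&
    eqC ((certL.getD j []).flatMap fun x => x.1 :: (yL.getD j [] ++ [x.2])) [tCode]

end Cfsg.Agent.Spor.Co3Uniq
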