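import Cfsg.Agent.Lib.Spor.Co3Uniq.Fusion
import Cfsg.Agent.Lib.Spor.Co3Std.Chk

/-!
Facts on the double cover: fourth roots of the involution, fourth powers, and the centraliser
of a subgroup of order nine.
-/

set_option autoImplicit false
set_option maxRecDepth 100000

namespace Cfsg.Agent.Spor.Co3Uniq

open Cos Cos.Co3Out

theorem g0_sq : g 0 * g 0 = 1 := g_sq 0

theorem g0_pow_even {n : ℕ} (h : Even n) : g 0 ^ n = 1 := by
  obtain ⟨k, rfl⟩ := h
  rw [pow_add, ← (Commute.refl (g 0)).mul_pow, g0_sq, one_pow]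

/-- An element with central square commutes with a fourth root of the involution. -/
theorem exists_root {y : M} (hy : y ∈ C) (h2 : y * y = 1 ∨ y * y = g 0) (h1 : y ≠ 1) (ht : y ≠ g 0) :
    ∃ w ∈ C, w * y = y * w ∧ w ^ 4 = g 0 := by
  obtain ⟨d, hd, i, hi, e⟩ := exists_conj_code hy (k := 2) (by
    rw [show (2 : ℕ) ^ 2 = 2 * 2 from rfl, pow_mul, sq, sq]
    rcases h2 with h | h <;> rw [h]
    · rw [one_mul]
    · exact g0_sq)
  set N := sylL.code.at i
  have hy' : y = d⁻¹ * el N * d := by rw [← e]; group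
  have hdt : d * g 0 * d⁻¹ = g 0 := by rw [mem_C_comm hd, mul_inv_cancel_right]
  have hN : el N * el N = 1 ∨ el N * el N = g 0 := by
    rw [← e, show d * y * d⁻¹ * (d * y * d⁻¹) = d * (y * y) * d⁻¹ by group]
    rcases h2 with h | h <;> rw [h]
    · left; group
    · exact Or.inr hdt
  have h := std_root_ok i hi
  simp only [chkRoot, force_eq, Bool.or_eq_true, Bool.and_eq_true, Nat.beq_eq] at h
  rcases h with ((h | h) | h) | h
  · subst h
    refine absurd ?_ h1
    rw [hy', show N = 0 from (LG.parts syl_ok hi).2.1 rfl, el_zero]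
    group
  · refine absurd ?_ ht
    rw [hy', show el N = g 0 from (congrArg el h).trans el_tCode, mul_assoc, ← mem_C_comm hd,
      inv_mul_cancel_left]
  · rcases hN with hN | hN
    · exact absurd hN (by simpa using prod_ne h.1)
    · exact absurd hN (by simpa [el_tCode] using prod_ne h.2)
  · set w := el (rW.at i)
    have hc : w * el N = el N * w := by simpa [w] using prod_eq h.1
    have h4 : w ^ 4 = g 0 := by
      have := prod_eq h.2
      simp only [List.map_cons, List.map_nil, List.prod_cons, List.prod_nil, mul_one, el_tCode] at this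
      rw [← this]
      simp only [pow_succ, pow_zero, one_mul, w, mul_assoc]
    refine ⟨d⁻¹ * w * d, mul_mem (mul_mem (inv_mem hd) (el_mem _)) hd, ?_, ?_⟩
    · rw [hy', show d⁻¹ * w * d * (d⁻¹ * el N * d) = d⁻¹ * (w * el N) * d by group, hc]
      group
    · rw [show d⁻¹ * w * d = d⁻¹ * w * d⁻¹⁻¹ by group, conj_pow, h4, inv_inv, mul_assoc, ← mem_C_comm hd,
        inv_mul_cancel_left]

/-- A fourth power outside the centre with central square is a conjugate of the first conjugate. -/
theorem exists_four {v : M} (hv : v ∈ C) (h8 : v ^ 8 = 1 ∨ v ^ 8 = g 0) (h4 : v ^ 4 ≠ 1) (h4t : v ^ 4 ≠ g 0) :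
    ∃ c ∈ C, v ^ 4 = c * e1 * c⁻¹ := by
  obtain ⟨d, hd, i, hi, e⟩ := exists_conj_code hv (k := 4) (by
    rw [show (2 : ℕ) ^ 4 = 8 * 2 from rfl, pow_mul, sq]
    rcases h8 with h | h <;> rw [h]
    · rw [one_mul]
    · exact g0_sq)
  set N := sylL.code.at i
  have hpow : el N ^ 4 = d * v ^ 4 * d⁻¹ := by rw [← e, conj_pow]
  have hdt : d⁻¹ * g 0 * d = g 0 := by rw [mul_assoc, ← mem_C_comm hd, inv_mul_cancel_left]
  have hv4 : v ^ 4 = d⁻¹ * el N ^ 4 * d := by rw [hpow]; group
  have h := std_four_ok i hi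
  simp only [chkFour, force_eq, Bool.or_eq_true] at h
  have p4 : ([N, N, N, N].map el).prod = el N ^ 4 := by
    simp only [List.map_cons, List.map_nil, List.prod_cons, List.prod_nil, mul_one, pow_succ, pow_zero, one_mul,
      mul_assoc]
  rcases h with (h | h) | h
  · refine absurd ?_ h4
    rw [hv4, ← p4, prod_eq h]
    simp
  · refine absurd ?_ h4t
    rw [hv4, ← p4, prod_eq h]
    simpa [el_tCode] using hdt
  · refine ⟨d⁻¹ * el (rF.at i), mul_mem (inv_mem hd) (el_mem _), ?_⟩
    have h' : el N ^ 4 * el (rF.at i) = el (rF.at i) * e1 := by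
      have := prod_eq h
      simp only [List.map_cons, List.map_nil, List.prod_cons, List.prod_nil, mul_one] at this
      simp only [pow_succ, pow_zero, one_mul, mul_assoc, e1]
      exact this
    rw [hv4, eq_mul_inv_of_mul_eq h']
    group

/-- The swap of the first conjugate and its translate. -/
noncomputable def sw : M := el swC

theorem sw_conj : sw * e1 * sw⁻¹ = e1 * g 0 := by
  rw [mul_inv_eq_iff_eq_mul, mul_assoc]
  simpa [sw, e1, el_tCode] using prod_eq std_facts.1

theorem e1_comm : e1 * g 0 = g 0 * e1 := mem_C_comm (el_mem _)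

/-- An element of order three is not conjugate to its translate. -/
theorem not_translate {x d : M} (hd : d ∈ C) (h3 : d ^ 3 = 1) : x * d * x⁻¹ ≠ d * g 0 := fun e => by
  have h : (x * d * x⁻¹) ^ 3 = (d * g 0) ^ 3 := by rw [e]
  rw [conj_pow, h3, (show Commute d (g 0) from mem_C_comm hd).mul_pow, h3, one_mul, mul_one, mul_inv_cancel] at h
  rw [show (3 : ℕ) = 2 + 1 from rfl, pow_succ, sq, g0_sq, one_mul] at h
  exact g0_ne h.symm

/-- The centraliser of the first conjugate. -/
noncomputable def cu : Subgroup M := C ⊓ Subgroup.centralizer {e1}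

theorem mem_cu {y : M} : y ∈ cu ↔ y ∈ C ∧ y * e1 = e1 * y := by
  rw [cu, Subgroup.mem_inf]
  exact Iff.and Iff.rfl Subgroup.mem_centralizer_singleton_iff

theorem cu_spec : Nat.card cu = 4608 ∧ ∀ y ∈ cu, ∃ i < 4608, el (cuL.code.at i) = y := by
  have : Finite C := Nat.finite_of_card_ne_zero (by rw [C_facts.2]; norm_num)
  have : Finite cu := Finite.of_injective (Subgroup.inclusion (inf_le_left : cu ≤ C))
    (Subgroup.inclusion_injective _)
  have horb : ∀ j < 630, el (oC.at j) * e1 = el (oV.at j) * el (oC.at j) ∧ (j = 0 ∨ oV.at (j - 1) < oV.at j) ∧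
      oV.at j < total := fun j hj => by
    have h := std_orb_ok j hj
    simp only [chkOrb, force_eq, Bool.and_eq_true, Bool.or_eq_true, Nat.beq_eq] at h
    refine ⟨by simpa [e1] using prod_eq h.1, h.2.imp id Nat.le_of_ble_eq_true, ?_⟩
    have h' := h.1
    simp only [eqC, Bool.and_eq_true, List.all_cons] at h'
    exact Nat.le_of_ble_eq_true h'.1.2.1
  have strict : ∀ i j, i < j → j < 630 → oV.at i < oV.at j := by
    intro i j hij
    induction hij with
    | refl => exact fun hj => ((horb _ hj).2.1.resolve_left (Nat.succ_ne_zero i))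
    | step _ ih => exact fun hj => (ih (Nat.lt_of_succ_lt hj)).trans ((horb _ hj).2.1.resolve_left (Nat.succ_ne_zero _))
  let f : Fin 630 × cu → C := fun x => ⟨el (oC.at x.1) * x.2.1, mul_mem (el_mem _) (mem_cu.1 x.2.2).1⟩
  have hf : Function.Injective f := by
    rintro ⟨i, a⟩ ⟨j, b⟩ e
    have e' : el (oC.at i) * a.1 = el (oC.at j) * b.1 := congrArg Subtype.val e
    have img : ∀ (k : Fin 630) (c : cu), el (oC.at k) * c.1 * e1 * (el (oC.at k) * c.1)⁻¹ = el (oV.at k) := by
      intro k c
      rw [show el (oC.at k) * c.1 * e1 * (el (oC.at k) * c.1)⁻¹ = el (oC.at k) * (c.1 * e1) * c.1⁻¹ * (el (oC.at k))⁻¹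
        by group, (mem_cu.1 c.2).2, ← mul_assoc, mul_inv_cancel_right, (horb k k.2).1, mul_inv_cancel_right]
    have hij : i = j := by
      have h := el_inj (horb i i.2).2.2 (horb j j.2).2.2 (by rw [← img i a, ← img j b, e'])
      refine Fin.ext ?_
      rcases lt_trichotomy (i : ℕ) j with hlt | heq | hgt
      · exact absurd h (strict _ _ hlt j.2).ne
      · exact heq
      · exact absurd h (strict _ _ hgt i.2).ne'
    subst hij
    exact Prod.ext rfl (Subtype.ext (mul_left_cancel e'))
  have hle : Nat.card cu ≤ 4608 := by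
    have := Nat.card_le_card_of_injective f hf
    rw [Nat.card_prod, Nat.card_fin, C_facts.2] at this
    omega
  have hgrp : cuL.grp ≤ cu := (Subgroup.closure_le _).2 fun y ⟨N, hN, e⟩ => e ▸ mem_cu.2 ⟨el_mem N, by
    simpa [e1] using prod_eq (List.all_eq_true.1 std_facts.2.2.2.2.2.2.2 N hN)⟩
  have hcard : Nat.card cuL.grp = 4608 := LG.card_eq std_cu_ok (show 0 < 4608 by norm_num)
  have heq : cuL.grp = cu := Subgroup.eq_of_le_of_card_ge hgrp (hle.trans hcard.ge)
  exact ⟨heq ▸ hcard, fun y hy => LG.exists_of_mem std_cu_ok (show 0 < 4608 by norm_num) (heq.symm ▸ hy)⟩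

/-- The four elements. -/
def Four (y : M) : Prop := y = 1 ∨ y = g 0 ∨ y = e1 ∨ y = e1 * g 0

theorem four_mul {a b : M} (ha : Four a) (hb : Four b) : Four (a * b) := by
  have h1 := e1_facts.1
  rcases ha with rfl | rfl | rfl | rfl <;> rcases hb with rfl | rfl | rfl | rfl <;>
    simp [Four, g0_sq, h1, e1_comm, ← mul_assoc, mul_one, one_mul]
  all_goals first | (simp [← mul_assoc, h1]; done) | (simp [mul_assoc, h1, g0_sq, ← e1_comm]; done) | (simp [mul_assoc, h1]; done)

theorem four_comm {a y : M} (ha : Four a) (hy : y ∈ cu) : y * a * y⁻¹ = a := by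
  obtain ⟨hyC, he⟩ := mem_cu.1 hy
  have ht := mem_C_comm hyC
  rw [mul_inv_eq_iff_eq_mul]
  rcases ha with rfl | rfl | rfl | rfl
  · simp
  · exact ht
  · exact he
  · rw [← mul_assoc, he, mul_assoc, ht, ← mul_assoc]

/-- A commuting pair of elements of order three generating a group of order nine. -/
structure Pair (a b : M) : Prop where
  a_mem : a ∈ cu
  b_mem : b ∈ cu
  a3 : a ^ 3 = 1
  b3 : b ^ 3 = 1
  comm : a * b = b * a
  n1 : a ≠ 1
  n2 : b ≠ 1
  n12 : a * b ≠ 1
  n122 : a * (b * b) ≠ 1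

/-- The subgroup of a pair is a Sylow subgroup. -/
theorem Pair.exists_sylow {a b : M} (h : Pair a b) : ∃ P : Sylow 3 cu,
    (P : Subgroup cu) = Subgroup.zpowers ⟨a, h.a_mem⟩ ⊔ Subgroup.zpowers ⟨b, h.b_mem⟩ := by
  have := Fact.mk Nat.prime_three
  have : Finite cu := Nat.finite_of_card_ne_zero (by rw [cu_spec.1]; norm_num)
  set A : cu := ⟨a, h.a_mem⟩ with hA
  set B : cu := ⟨b, h.b_mem⟩ with hB
  have hA3 : A ^ 3 = 1 := Subtype.ext h.a3
  have hB3 : B ^ 3 = 1 := Subtype.ext h.b3
  have hAB : Commute A B := Subtype.ext h.comm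
  have hp : ∀ {X : cu}, X ^ 3 = 1 → IsPGroup 3 (Subgroup.zpowers X) := fun {X} hX => by
    obtain ⟨j, -, hj⟩ := (Nat.dvd_prime_pow Nat.prime_three).1
      (orderOf_dvd_of_pow_eq_one (x := X) (n := 3 ^ 1) (by rw [pow_one]; exact hX))
    exact IsPGroup.of_card (n := j) (by rw [Nat.card_zpowers, hj])
  set D := Subgroup.zpowers A ⊔ Subgroup.zpowers B
  have hnorm : Subgroup.zpowers A ≤ Subgroup.normalizer ((Subgroup.zpowers B : Subgroup cu) : Set cu) := by
    refine Subgroup.zpowers_le.2 (Subgroup.mem_normalizer_iff.2 fun y => ?_)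
    have key : ∀ y ∈ Subgroup.zpowers B, A * y * A⁻¹ = y := by
      rintro _ ⟨k, rfl⟩
      rw [(hAB.zpow_right k).eq, mul_inv_cancel_right]
    refine ⟨fun hy => (key y hy).symm ▸ hy, fun hy => ?_⟩
    have e := key _ hy
    rw [mul_left_inj, mul_right_inj] at e
    exact e ▸ hy
  have hD : IsPGroup 3 D := (hp hA3).to_sup_of_normal_right' (hp hB3) hnorm
  let f : Fin 3 × Fin 3 → D := fun x => ⟨A ^ (x.1 : ℕ) * B ^ (x.2 : ℕ),
    mul_mem (Subgroup.mem_sup_left (Subgroup.npow_mem_zpowers _ _))
      (Subgroup.mem_sup_right (Subgroup.npow_mem_zpowers _ _))⟩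
  have hf : Function.Injective f := by
    intro x y e
    have key : ∀ i j : ℕ, i < 3 → j < 3 → a ^ i * b ^ j = 1 → i = 0 ∧ j = 0 := by
      intro i j hi hj e
      have a2 : a * a * a = 1 := by rw [← h.a3]; simp only [pow_succ, pow_zero, one_mul]
      interval_cases i <;> interval_cases j <;> simp only [pow_zero, pow_one, one_mul, mul_one, sq] at e
      · exact ⟨rfl, rfl⟩
      · exact absurd e h.n2
      · refine absurd ?_ h.n2
        have b2 : b * b * b = 1 := by rw [← h.b3]; simp only [pow_succ, pow_zero, one_mul]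
        rwa [e, one_mul] at b2
      · exact absurd e h.n1
      · exact absurd e h.n12
      · exact absurd e h.n122
      · refine absurd ?_ h.n1
        rwa [e, one_mul] at a2
      · refine absurd ?_ h.n122
        have : b = a := by
          calc b = a * a * a * b := by rw [a2, one_mul]
            _ = a * (a * a * b) := by group
            _ = a := by rw [e, mul_one]
        rw [this, ← mul_assoc, a2]
      · refine absurd ?_ h.n12
        have b2 : b * b * b = 1 := by rw [← h.b3]; simp only [pow_succ, pow_zero, one_mul]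
        have hc : Commute b (a * a) := (show Commute b a from h.comm.symm).mul_right h.comm.symm
        calc a * b = a * b * (a * a * (b * b)) := by rw [e, mul_one]
          _ = a * (b * (a * a)) * (b * b) := by group
          _ = a * a * a * (b * b * b) := by rw [hc.eq]; group
          _ = 1 := by rw [a2, b2, one_mul]
    obtain ⟨i, j⟩ := x
    obtain ⟨i', j'⟩ := y
    have e' : a ^ (i : ℕ) * b ^ (j : ℕ) = a ^ (i' : ℕ) * b ^ (j' : ℕ) :=
      congrArg (fun z : D => z.1.1) e
    have hc : Commute a b := h.comm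
    have e'' : a ^ (((i : ℕ) + 3 - i') % 3) * b ^ (((j : ℕ) + 3 - j') % 3) = 1 := by
      rw [← pow_eq_pow_mod _ h.a3, ← pow_eq_pow_mod _ h.b3]
      refine mul_left_cancel (a := a ^ (i' : ℕ) * b ^ (j' : ℕ)) ?_
      rw [mul_one, mul_assoc, ← mul_assoc (b ^ (j' : ℕ)), (hc.symm.pow_pow _ _).eq, mul_assoc, ← pow_add,
        ← mul_assoc, ← pow_add, show (i' : ℕ) + (i + 3 - i') = i + 3 by omega,
        show (j' : ℕ) + (j + 3 - j') = j + 3 by omega, pow_add, pow_add, h.a3, h.b3, mul_one, mul_one, e']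
    obtain ⟨z1, z2⟩ := key _ _ (Nat.mod_lt _ (by omega)) (Nat.mod_lt _ (by omega)) e''
    exact Prod.ext (Fin.ext (by show (i : ℕ) = i'; omega)) (Fin.ext (by show (j : ℕ) = j'; omega))
  obtain ⟨P, hP⟩ := hD.exists_le_sylow
  refine ⟨P, (Subgroup.eq_of_le_of_card_ge hP ?_).symm⟩
  have h9 : 9 ≤ Nat.card D := by simpa using Nat.card_le_card_of_injective f hf
  refine le_trans ?_ h9
  rw [P.card_eq_multiplicity, cu_spec.1, show (4608 : ℕ) = 3 ^ 2 * 512 by norm_num,
    Nat.factorization_mul (by norm_num) (by norm_num), Finsupp.add_apply, Nat.factorization_pow_self Nat.prime_three,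
    Nat.factorization_eq_zero_of_not_dvd (n := 512) (p := 3) (by norm_num)]
  norm_num

/-- The first element of order three. -/
noncomputable def hA : M := el h1C

/-- The second element of order three. -/
noncomputable def hB : M := el h2C

theorem pair_h : Pair hA hB := by
  obtain ⟨-, a3, b3, ab, au, bu, ne, -⟩ := std_facts
  have hne : ∀ j < 4, (((yL.getD j []).map el).prod ≠ 1) := fun j hj => by
    simpa using prod_ne (List.all_eq_true.1 ne j (List.mem_range.2 hj))
  refine ⟨mem_cu.2 ⟨el_mem _, by simpa [hA, e1] using prod_eq au⟩,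
    mem_cu.2 ⟨el_mem _, by simpa [hB, e1] using prod_eq bu⟩,
    by simpa [hA, pow_succ, mul_assoc] using prod_eq a3, by simpa [hB, pow_succ, mul_assoc] using prod_eq b3,
    by simpa [hA, hB] using prod_eq ab, by simpa [yL, hA] using hne 0, by simpa [yL, hB] using hne 1,
    by simpa [yL, hA, hB] using hne 2, by simpa [yL, hA, hB] using hne 3⟩

/-- A property kept by products and by the centraliser of the conjugate reaches the involution. -/
theorem cert {P : M → Prop} (h1 : P 1) (hmul : ∀ a b, P a → P b → P (a * b))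
    (hconj : ∀ x ∈ cu, ∀ a, P a → P (x * a * x⁻¹))
    (hy : P hA ∨ P hB ∨ P (hA * hB) ∨ P (hA * (hB * hB))) : P (g 0) := by
  obtain ⟨j, hj, hy⟩ : ∃ j < 4, P ((yL.getD j []).map el).prod := by
    rcases hy with h | h | h | h
    · exact ⟨0, by norm_num, by simpa [yL, hA] using h⟩
    · exact ⟨1, by norm_num, by simpa [yL, hB] using h⟩
    · exact ⟨2, by norm_num, by simpa [yL, hA, hB] using h⟩
    · exact ⟨3, by norm_num, by simpa [yL, hA, hB] using h⟩
  have hc := List.all_eq_true.1 std_cert_ok j (List.mem_range.2 hj)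
  simp only [chkCert, Bool.and_eq_true, List.all_eq_true] at hc
  have hg : g 0 = (((certL.getD j []).flatMap fun x => x.1 :: (yL.getD j [] ++ [x.2])).map el).prod := by
    rw [prod_eq hc.2]
    simp [el_tCode]
  rw [hg]
  generalize hL : certL.getD j [] = L at hc
  have hx : ∀ x ∈ L, eqC [x.1, x.2] [] = true ∧ eqC [x.1, u1C] [u1C, x.1] = true := hc.1
  clear hc hg hL
  induction L with
  | nil => simpa using h1
  | cons x L ih =>
    obtain ⟨hi, hu⟩ := hx x (List.mem_cons_self ..)
    rw [List.flatMap_cons, List.map_append, List.prod_append]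
    refine hmul _ _ ?_ (ih fun y hy => hx y (List.mem_cons_of_mem _ hy))
    have e : el x.2 = (el x.1)⁻¹ := eq_inv_of_mul_eq_one_right (by simpa using prod_eq hi)
    have := hconj (el x.1) (mem_cu.2 ⟨el_mem _, by simpa [e1] using prod_eq hu⟩) _ hy
    simpa [List.map_append, List.prod_append, e, mul_assoc] using this

theorem pow_mul_nine (N : ℕ) : ([N, N, N, N, N, N, N, N, N].map el).prod = el N ^ 9 := by
  simp only [List.map_cons, List.map_nil, List.prod_cons, List.prod_nil, mul_one, pow_succ, pow_zero, one_mul,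
    mul_assoc]

theorem four_of_chk {L : List ℕ} (h : isFour L = true) : Four (L.map el).prod := by
  simp only [isFour, Bool.or_eq_true] at h
  rcases h with ((h | h) | h) | h <;> rw [prod_eq h] <;> simp [Four, e1, el_tCode]

/-- An element of two-power order centralising a pair and the conjugate up to the involution is one of four. -/
theorem nine {a b c : M} (h : Pair a b) (hc : c ∈ C) {k : ℕ} (hk : c ^ 2 ^ k = 1) (ha : c * a = a * c)
    (hb : c * b = b * c) (he : c * e1 * c⁻¹ = e1 ∨ c * e1 * c⁻¹ = e1 * g 0) : Four c := by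
  have : Fact (Nat.Prime 3) := ⟨Nat.prime_three⟩
  have : Finite cu := Nat.finite_of_card_ne_zero (by rw [cu_spec.1]; norm_num)
  obtain ⟨P, hP⟩ := pair_h.exists_sylow
  obtain ⟨Q, hQ⟩ := h.exists_sylow
  obtain ⟨u, hu⟩ := MulAction.exists_smul_eq cu P Q
  set v : M := u.1 with hv
  have key : ∀ y : cu, y ∈ (P : Subgroup cu) → c * (v * y.1 * v⁻¹) = v * y.1 * v⁻¹ * c := by
    intro y hy
    have hm : MulAut.conj u y ∈ (Q : Subgroup cu) := by rw [← hu]; exact ⟨y, hy, rfl⟩
    rw [hQ] at hm
    have hle : Subgroup.zpowers (⟨a, h.a_mem⟩ : cu) ⊔ Subgroup.zpowers ⟨b, h.b_mem⟩ ≤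
        (Subgroup.centralizer {c}).comap cu.subtype :=
      sup_le (Subgroup.zpowers_le.2 (Subgroup.mem_centralizer_singleton_iff.2 ha.symm))
        (Subgroup.zpowers_le.2 (Subgroup.mem_centralizer_singleton_iff.2 hb.symm))
    exact (Subgroup.mem_centralizer_singleton_iff.1 (hle hm)).symm
  set x := v⁻¹ * c * v with hxd
  have hvC := (mem_cu.1 u.2).1
  have hxC : x ∈ C := mul_mem (mul_mem (inv_mem hvC) hc) hvC
  have comm : ∀ {y : M}, c * (v * y * v⁻¹) = v * y * v⁻¹ * c → x * y = y * x := fun {y} e => by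
    calc x * y = v⁻¹ * (c * (v * y * v⁻¹)) * v := by rw [hxd]; group
      _ = _ := by rw [e, hxd]; group
  have xa : x * hA = hA * x :=
    comm (key ⟨hA, pair_h.a_mem⟩ (hP.symm ▸ Subgroup.mem_sup_left (Subgroup.mem_zpowers _)))
  have xb : x * hB = hB * x :=
    comm (key ⟨hB, pair_h.b_mem⟩ (hP.symm ▸ Subgroup.mem_sup_right (Subgroup.mem_zpowers _)))
  have hxk : x ^ 2 ^ k = 1 := by
    rw [hxd, show v⁻¹ * c * v = v⁻¹ * c * v⁻¹⁻¹ by group, conj_pow, hk]
    group
  have hxe : x * e1 * x⁻¹ = e1 ∨ x * e1 * x⁻¹ = e1 * g 0 := by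
    have hu1 : ∀ {a : M}, Four a → v * a * v⁻¹ = a := fun ha => four_comm ha u.2
    rw [hxd]
    rcases he with e | e
    · left
      rw [show v⁻¹ * c * v * e1 * (v⁻¹ * c * v)⁻¹ = v⁻¹ * (c * (v * e1 * v⁻¹) * c⁻¹) * v by group,
        hu1 (by simp [Four]), e]
      conv_lhs => rw [← hu1 (a := e1) (by simp [Four])]
      group
    · right
      rw [show v⁻¹ * c * v * e1 * (v⁻¹ * c * v)⁻¹ = v⁻¹ * (c * (v * e1 * v⁻¹) * c⁻¹) * v by group,
        hu1 (by simp [Four]), e]
      conv_lhs => rw [← hu1 (a := e1 * g 0) (by simp [Four])]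
      group
  have hfour : Four (x ^ 9) := by
    rcases hxe with e | e
    · obtain ⟨i, hi, hi'⟩ : ∃ i < 4608, el (cuL.code.at i) = x :=
        cu_spec.2 x (mem_cu.2 ⟨hxC, by rwa [mul_inv_eq_iff_eq_mul] at e⟩)
      rw [← hi'] at xa xb ⊢
      have h0 := std_nine_ok i hi
      simp only [chkNine, force_eq, Bool.and_eq_true] at h0
      have h' := h0.1
      simp only [Bool.or_eq_true] at h'
      rcases h' with (h' | h') | h'
      · exact absurd (by simpa [hA] using xa) (prod_ne h')
      · exact absurd (by simpa [hB] using xb) (prod_ne h')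
      · simpa only [pow_mul_nine] using four_of_chk h'
    · have hxs : x * sw⁻¹ ∈ cu := by
        refine mem_cu.2 ⟨mul_mem hxC (inv_mem (el_mem _)), ?_⟩
        have e2 : sw⁻¹ * e1 = e1 * g 0 * sw⁻¹ := by
          have h1 : sw * (e1 * g 0) = e1 * sw := by
            rw [← mul_assoc, mul_inv_eq_iff_eq_mul.1 sw_conj, mul_assoc (e1 * g 0),
              mem_C_comm (show sw ∈ C from el_mem _), ← mul_assoc, mul_assoc e1, g0_sq, mul_one]
          calc sw⁻¹ * e1 = sw⁻¹ * (e1 * sw) * sw⁻¹ := by group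
            _ = _ := by rw [← h1]; group
        have hgx : x * (e1 * g 0) = e1 * x := by
          rw [← mul_assoc, show x * e1 = e1 * g 0 * x by rwa [mul_inv_eq_iff_eq_mul] at e, mul_assoc (e1 * g 0),
            mem_C_comm hxC, ← mul_assoc, mul_assoc e1, g0_sq, mul_one]
        rw [mul_assoc, e2, ← mul_assoc, hgx, mul_assoc]
      obtain ⟨i, hi, hi'⟩ := cu_spec.2 _ hxs
      have hx' : x = el (cuL.code.at i) * sw := by rw [hi', inv_mul_cancel_right]
      have h0 := std_nine_ok i hi
      simp only [chkNine, force_eq, Bool.and_eq_true] at h0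
      have h' := h0.2
      simp only [Bool.or_eq_true] at h'
      rcases h' with (h' | h') | h'
      · exact absurd (by simpa [hA, hx', sw, mul_assoc] using xa) (prod_ne h')
      · exact absurd (by simpa [hB, hx', sw, mul_assoc] using xb) (prod_ne h')
      · have := four_of_chk h'
        simp only [List.map_cons, List.map_nil, List.prod_cons, List.prod_nil, mul_one] at this
        rw [hx']
        simpa only [pow_succ, pow_zero, one_mul, sw, mul_assoc] using this
  have hcop : Nat.Coprime 9 (orderOf x) :=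
    (Nat.Coprime.pow_right k (by norm_num : Nat.Coprime 9 2)).coprime_dvd_right (orderOf_dvd_of_pow_eq_one hxk)
  obtain ⟨m, hm⟩ := exists_pow_eq_self_of_coprime hcop
  have hpow : ∀ m : ℕ, Four ((x ^ 9) ^ m) := fun m => by
    induction m with
    | zero => exact Or.inl (pow_zero _)
    | succ m ih => rw [pow_succ]; exact four_mul ih hfour
  have hxF : Four x := hm ▸ hpow m
  have : c = v * x * v⁻¹ := by rw [hxd]; group
  rw [this, four_comm hxF u.2]
  exact hxF

end Cfsg.Agent.Spor.Co3Uniq
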