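import Cfsg.Agent.Lib.Spor.Co3Std.Facts

/-!
A tightly embedded centraliser of a double cover has Sylow subgroups of order two.
-/

set_option autoImplicit false
set_option maxRecDepth 100000

namespace Cfsg.Agent.Spor.Co3Uniq

open Cos Cos.Co3Out

universe u

local notation "τ" => Cos.Co3Out.g 0

/-- A double cover with the centraliser of its central involution. -/
structure Std (G : Type u) [Group G] where
  /-- the copy of the cover -/
  ψ : C →* G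
  inj : Function.Injective ψ
  /-- the centraliser of the copy -/
  K : Subgroup G
  comm : ∀ c, ∀ k ∈ K, ψ c * k = k * ψ c
  zK : ψ tC ∈ K
  dec : ∀ y, y * ψ tC = ψ tC * y → ∃ c, ∃ k ∈ K, y = ψ c * k
  inter : ∀ c, ψ c ∈ K → c = 1 ∨ c = tC
  tight : ∀ g r, ∀ n : ℕ, g * ψ tC * g⁻¹ ≠ ψ tC → r ∈ K → g⁻¹ * r * g ∈ K → r ^ 2 ^ n = 1 → r = 1

namespace Std

variable {G : Type u} [Group G] (S : Std G)

/-- The central involution. -/
noncomputable def z : G := S.ψ tC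

theorem z_facts : S.z * S.z = 1 ∧ S.z ≠ 1 := by
  refine ⟨?_, fun e => g0_ne (congrArg Subtype.val ((map_eq_one_iff _ S.inj).1 e))⟩
  rw [z, ← map_mul, show tC * tC = 1 from Subtype.ext g0_sq, map_one]

theorem psi_z (c : C) : S.ψ c * S.z = S.z * S.ψ c := by
  rw [z, ← map_mul, ← map_mul, show c * tC = tC * c from Subtype.ext (mem_C_comm c.2)]

theorem K_z {k : G} (hk : k ∈ S.K) : k * S.z = S.z * k := (S.comm tC k hk).symm

theorem dec_comm {c : C} {k : G} (hk : k ∈ S.K) : S.ψ c * k * S.z = S.z * (S.ψ c * k) := by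
  rw [mul_assoc, S.K_z hk, ← mul_assoc, S.psi_z, mul_assoc]

theorem mul_dec {a a' : C} {i i' : G} (hi : i ∈ S.K) :
    S.ψ a * i * (S.ψ a' * i') = S.ψ (a * a') * (i * i') := by
  calc S.ψ a * i * (S.ψ a' * i') = S.ψ a * (i * S.ψ a') * i' := by group
    _ = _ := by rw [← S.comm a' i hi, map_mul]; group

theorem pow_dec {a : C} {i : G} (hi : i ∈ S.K) (n : ℕ) : (S.ψ a * i) ^ n = S.ψ (a ^ n) * i ^ n := by
  rw [(show Commute (S.ψ a) i from S.comm a i hi).mul_pow, map_pow]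

theorem uniq {a a' : C} {i i' : G} (hi : i ∈ S.K) (hi' : i' ∈ S.K) (e : S.ψ a * i = S.ψ a' * i') :
    a'⁻¹ * a = 1 ∨ a'⁻¹ * a = tC := by
  refine S.inter _ ?_
  have : S.ψ (a'⁻¹ * a) = i' * i⁻¹ := by
    rw [map_mul, map_inv, inv_mul_eq_iff_eq_mul, ← mul_assoc, ← e, mul_inv_cancel_right]
  exact this ▸ S.K.mul_mem hi' (S.K.inv_mem hi)

theorem coord {a : C} {i y : G} (hi : i ∈ S.K) (e : y = S.ψ a * i) (hy : y ∈ S.K) :
    a.1 = 1 ∨ a.1 = τ := by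
  rcases S.inter a (by rw [show S.ψ a = y * i⁻¹ by rw [e, mul_inv_cancel_right]];
                       exact S.K.mul_mem hy (S.K.inv_mem hi)) with rfl | rfl
  · exact Or.inl rfl
  · exact Or.inr rfl

theorem bracket {a a' : C} {i i' : G} (hi : i ∈ S.K) (hi' : i' ∈ S.K)
    (e : S.ψ a * i * (S.ψ a' * i') = S.ψ a' * i' * (S.ψ a * i)) :
    a.1 * a'.1 = a'.1 * a.1 ∨ a.1 * a'.1 = a'.1 * a.1 * τ := by
  rw [S.mul_dec hi, S.mul_dec hi'] at e
  rcases S.uniq (S.K.mul_mem hi hi') (S.K.mul_mem hi' hi) e with h | h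
  · left
    exact congrArg Subtype.val (inv_mul_eq_one.1 h).symm
  · right
    exact congrArg Subtype.val (inv_mul_eq_iff_eq_mul.1 h)

/-- The conjugate by `g` of the involution is a different one commuting with it. -/
def Conj (g : G) : Prop := g * S.z * g⁻¹ ≠ S.z ∧ g * S.z * g⁻¹ * S.z = S.z * (g * S.z * g⁻¹)

theorem Conj.inv {g : G} (h : S.Conj g) : S.Conj g⁻¹ := by
  refine ⟨fun e => h.1 ?_, ?_⟩
  · calc g * S.z * g⁻¹ = g * (g⁻¹ * S.z * g⁻¹⁻¹) * g⁻¹ := by rw [e]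
      _ = _ := by group
  · calc g⁻¹ * S.z * g⁻¹⁻¹ * S.z = g⁻¹ * (S.z * (g * S.z * g⁻¹)) * g := by group
      _ = _ := by rw [← h.2]; group

theorem not_mem_K {g : G} (h : S.Conj g) : g * S.z * g⁻¹ ∉ S.K := fun hin => by
  have := S.tight g _ 1 h.1 hin (by
    rw [show g⁻¹ * (g * S.z * g⁻¹) * g = S.z by group]
    exact S.zK) (by rw [pow_one, conj_pow, sq, S.z_facts.1]; group)
  exact S.z_facts.2 (conj_eq_one_iff.1 this)

theorem not_mem_K' {g : G} (h : S.Conj g) : g⁻¹ * S.z * g ∉ S.K := by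
  simpa using S.not_mem_K (Conj.inv S h)

theorem back {g y : G} (hy : y * (g * S.z * g⁻¹) = g * S.z * g⁻¹ * y) :
    g⁻¹ * y * g * S.z = S.z * (g⁻¹ * y * g) := by
  calc g⁻¹ * y * g * S.z = g⁻¹ * (y * (g * S.z * g⁻¹)) * g := by group
    _ = _ := by rw [hy]; group

/-- The component of a conjugate has the class of the first conjugate. -/
theorem exists_class {g : G} (h : S.Conj g) :
    ∃ c : C, ∃ k ∈ S.K, g⁻¹ * S.z * g = S.ψ (c * cel u1C * c⁻¹) * k := by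
  obtain ⟨a, i, hi, ha⟩ := S.dec _ h.2
  have hz2 : (g * S.z * g⁻¹) ^ 2 = 1 := by rw [conj_pow, sq, S.z_facts.1]; group
  have ha2 : a.1 * a.1 = 1 ∨ a.1 * a.1 = τ := by
    have := S.coord (a := a ^ 2) (S.K.pow_mem hi 2) ((S.pow_dec hi 2).symm.trans (ha ▸ hz2)).symm (one_mem _)
    simpa [sq] using this
  have hne : a.1 ≠ 1 ∧ a.1 ≠ τ := by
    constructor <;> intro e <;> refine S.not_mem_K h (ha ▸ S.K.mul_mem ?_ hi)
    · rw [show a = 1 from Subtype.ext e, map_one]; exact one_mem _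
    · rw [show a = tC from Subtype.ext e]; exact S.zK
  obtain ⟨w, hw, hwa, hw4⟩ := exists_root a.2 ha2 hne.1 hne.2
  set W : C := ⟨w, hw⟩
  have hWz : S.ψ W * (g * S.z * g⁻¹) = g * S.z * g⁻¹ * S.ψ W := by
    rw [ha, ← mul_assoc, ← map_mul, show W * a = a * W from Subtype.ext hwa, map_mul, mul_assoc,
      S.comm W i hi, mul_assoc]
  obtain ⟨v, j, hj, hv⟩ := S.dec _ (S.back hWz)
  have h4 : g⁻¹ * S.z * g = S.ψ (v ^ 4) * j ^ 4 := by
    rw [← S.pow_dec hj, ← hv, show g⁻¹ * S.ψ W * g = g⁻¹ * S.ψ W * g⁻¹⁻¹ by group, conj_pow, ← map_pow,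
      show W ^ 4 = tC from Subtype.ext hw4, inv_inv]
    rfl
  have hv4 : (v.1) ^ 4 ≠ 1 ∧ v.1 ^ 4 ≠ τ := by
    constructor <;> intro e <;> refine S.not_mem_K' h (h4 ▸ S.K.mul_mem ?_ (S.K.pow_mem hj 4))
    · rw [show v ^ 4 = 1 from Subtype.ext e, map_one]; exact one_mem _
    · rw [show v ^ 4 = tC from Subtype.ext e]; exact S.zK
  have hv8 : v.1 ^ 8 = 1 ∨ v.1 ^ 8 = τ := by
    refine S.coord (a := v ^ 8) (S.K.pow_mem hj 8) ?_ (one_mem _)
    rw [← S.pow_dec hj, show (8 : ℕ) = 4 * 2 from rfl, pow_mul, S.pow_dec hj, ← h4,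
      show g⁻¹ * S.z * g = g⁻¹ * S.z * g⁻¹⁻¹ by group, conj_pow, sq, S.z_facts.1]
    group
  obtain ⟨c, hc, e⟩ := exists_four v.2 hv8 hv4.1 hv4.2
  exact ⟨⟨c, hc⟩, j ^ 4, S.K.pow_mem hj 4, by rw [h4]; congr 2; exact Subtype.ext e⟩

/-- Both components of some conjugate are the first conjugate. -/
theorem exists_good {g : G} (h : S.Conj g) : ∃ g', S.Conj g' ∧
    (∃ k ∈ S.K, g' * S.z * g'⁻¹ = S.ψ (cel u1C) * k) ∧ ∃ k ∈ S.K, g'⁻¹ * S.z * g' = S.ψ (cel u1C) * k := by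
  have slide : ∀ {g : G}, S.Conj g → ∀ (c : C) (k : G), k ∈ S.K →
      g * S.z * g⁻¹ = S.ψ (c * cel u1C * c⁻¹) * k →
      S.Conj ((S.ψ c)⁻¹ * g) ∧ (S.ψ c)⁻¹ * g * S.z * ((S.ψ c)⁻¹ * g)⁻¹ = S.ψ (cel u1C) * k := by
    intro g h c k hk e
    have e' : (S.ψ c)⁻¹ * g * S.z * ((S.ψ c)⁻¹ * g)⁻¹ = S.ψ (cel u1C) * k := by
      calc (S.ψ c)⁻¹ * g * S.z * ((S.ψ c)⁻¹ * g)⁻¹ = (S.ψ c)⁻¹ * (g * S.z * g⁻¹) * S.ψ c := by group
        _ = S.ψ (cel u1C) * ((S.ψ c)⁻¹ * (k * S.ψ c)) := by rw [e, map_mul, map_mul, map_inv]; group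
        _ = _ := by rw [← S.comm c k hk]; group
    refine ⟨⟨fun h' => h.1 ?_, ?_⟩, e'⟩
    · rw [show g * S.z * g⁻¹ = S.ψ c * ((S.ψ c)⁻¹ * g * S.z * ((S.ψ c)⁻¹ * g)⁻¹) * (S.ψ c)⁻¹ by group, h',
        S.psi_z, mul_inv_cancel_right]
    · rw [e', S.dec_comm hk]
  obtain ⟨c, k, hk, e⟩ := S.exists_class (Conj.inv S h)
  obtain ⟨h1, e1'⟩ := slide h c k hk (by simpa using e)
  obtain ⟨c', k', hk', e'⟩ := S.exists_class h1
  set g1 := (S.ψ c)⁻¹ * g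
  obtain ⟨h2, e2⟩ := slide (Conj.inv S h1) c' k' hk' (by simpa using e')
  refine ⟨g1 * S.ψ c', ?_, ⟨k, hk, ?_⟩, k', hk', ?_⟩
  · simpa using Conj.inv S h2
  · rw [show g1 * S.ψ c' * S.z * (g1 * S.ψ c')⁻¹ = g1 * (S.ψ c' * S.z * (S.ψ c')⁻¹) * g1⁻¹ by group, S.psi_z,
      mul_inv_cancel_right, e1']
  · rw [← e2]; group

/-- An element of two-power order commuting with the component is the identity or the involution. -/
theorem trivial_of_comm {g k r : G} (hg : S.Conj g) (hk : k ∈ S.K) (hz' : g * S.z * g⁻¹ = S.ψ (cel u1C) * k)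
    {k' : G} (hk' : k' ∈ S.K) (hz'' : g⁻¹ * S.z * g = S.ψ (cel u1C) * k') (hr : r ∈ S.K) {n : ℕ}
    (hn : r ^ 2 ^ n = 1) (hrk : r * k = k * r) : r = 1 ∨ r = S.z := by
  have comm_z' : ∀ c : C, c.1 * e1 = e1 * c.1 → S.ψ c * (g * S.z * g⁻¹) = g * S.z * g⁻¹ * S.ψ c := fun c hc => by
    rw [hz', ← mul_assoc, ← map_mul, show c * cel u1C = cel u1C * c from Subtype.ext hc, map_mul, mul_assoc,
      S.comm c k hk, mul_assoc]
  have hrz : r * (g * S.z * g⁻¹) = g * S.z * g⁻¹ * r := by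
    rw [hz', ← mul_assoc, ← S.comm _ r hr, mul_assoc, hrk, mul_assoc]
  have hcz : ∀ {y : G}, y * S.z = S.z * y →
      g⁻¹ * y * g * (g⁻¹ * S.z * g) = g⁻¹ * S.z * g * (g⁻¹ * y * g) := fun {y} hy => by
    calc g⁻¹ * y * g * (g⁻¹ * S.z * g) = g⁻¹ * (y * S.z) * g := by group
      _ = _ := by rw [hy]; group
  obtain ⟨c, j, hj, hc⟩ := S.dec _ (S.back hrz)
  have himage : ∀ (a : C), a.1 ∈ cu → (a.1) ^ 3 = 1 → ∃ d : C, ∃ i ∈ S.K,
      d.1 ∈ cu ∧ d.1 ^ 3 = 1 ∧ g⁻¹ * S.ψ a * g = S.ψ d * i := by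
    intro a ha ha3
    obtain ⟨d, i, hi, hd⟩ := S.dec _ (S.back (comm_z' a (mem_cu.1 ha).2))
    have hb3 : (g⁻¹ * S.ψ a * g) ^ 3 = 1 := by
      rw [show g⁻¹ * S.ψ a * g = g⁻¹ * S.ψ a * g⁻¹⁻¹ by group, conj_pow, ← map_pow,
        show a ^ 3 = 1 from Subtype.ext ha3, map_one]
      group
    have h3 := S.coord (a := d ^ 3) (S.K.pow_mem hi 3) (by rw [← S.pow_dec hi, ← hd, hb3]) (one_mem _)
    have hd' : g⁻¹ * S.ψ a * g = S.ψ (d ^ 4) * i ^ 4 := by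
      rw [← S.pow_dec hi, ← hd, pow_succ, hb3, one_mul]
    have d3 : (d.1 ^ 4) ^ 3 = 1 := by
      rw [← pow_mul, show 4 * 3 = 3 * 4 from rfl, pow_mul]
      rcases h3 with e | e <;> rw [show d.1 ^ 3 = (d ^ 3 : C).1 from rfl, e]
      · exact one_pow _
      · exact g0_pow_even (by decide)
    refine ⟨d ^ 4, i ^ 4, S.K.pow_mem hi 4, mem_cu.2 ⟨(d ^ 4 : C).2, ?_⟩, d3, hd'⟩
    have hcm := hcz (S.psi_z a)
    rw [hd', hz''] at hcm
    rcases S.bracket hk' (S.K.pow_mem hi 4) hcm.symm with e | e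
    · exact e.symm
    · refine absurd ?_ (not_translate (x := e1) (d ^ 4 : C).2 d3)
      show e1 * (d ^ 4 : C).1 * e1⁻¹ = (d ^ 4 : C).1 * τ
      have e' : e1 * (d ^ 4 : C).1 = (d ^ 4 : C).1 * e1 * τ := e
      rw [e', mul_assoc _ e1, e1_comm, ← mul_assoc, mul_inv_cancel_right]
  have key : ∀ {d d' : C} {i i' : G}, i ∈ S.K → i' ∈ S.K → d'.1 ^ 3 = 1 →
      S.ψ d * i * (S.ψ d' * i') = S.ψ d' * i' * (S.ψ d * i) → d.1 * d'.1 = d'.1 * d.1 := by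
    intro d d' i i' hi hi' h3 e
    rcases S.bracket hi hi' e with e | e
    · exact e
    · refine absurd ?_ (not_translate (x := d.1) d'.2 h3)
      rw [e, mul_assoc _ d.1, mem_C_comm d.2, ← mul_assoc, mul_inv_cancel_right]
  obtain ⟨A, hA'⟩ : ∃ A : C, A.1 = hA := ⟨⟨hA, (mem_cu.1 pair_h.a_mem).1⟩, rfl⟩
  obtain ⟨B, hB'⟩ : ∃ B : C, B.1 = hB := ⟨⟨hB, (mem_cu.1 pair_h.b_mem).1⟩, rfl⟩
  have hAu : A.1 ∈ cu := hA' ▸ pair_h.a_mem
  have hBu : B.1 ∈ cu := hB' ▸ pair_h.b_mem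
  obtain ⟨da, ia, hia, hda, hda3, ea⟩ := himage A hAu (hA' ▸ pair_h.a3)
  obtain ⟨db, ib, hib, hdb, hdb3, eb⟩ := himage B hBu (hB' ▸ pair_h.b3)
  -- combinations of the images are nontrivial
  let P : M → Prop := fun y => ∃ a : C, a.1 = y ∧ y ∈ cu ∧ g⁻¹ * S.ψ a * g ∈ S.K
  have hPt : ¬ P (τ) := by
    rintro ⟨a, ha, -, hK⟩
    refine S.not_mem_K' hg ?_
    rwa [show a = tC from Subtype.ext ha] at hK
  have hP : ∀ {y : C}, y.1 ∈ cu → g⁻¹ * S.ψ y * g ∈ S.K → (y.1 = hA ∨ y.1 = hB ∨ y.1 = hA * hB ∨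
      y.1 = hA * (hB * hB)) → False := by
    intro y hy hK hor
    refine hPt (cert (P := P) ⟨1, rfl, one_mem _, by simp⟩ ?_ ?_ ?_)
    · rintro _ _ ⟨a, rfl, ha, ha'⟩ ⟨b, rfl, hb, hb'⟩
      exact ⟨a * b, rfl, mul_mem ha hb, by
        rw [map_mul, show g⁻¹ * (S.ψ a * S.ψ b) * g = g⁻¹ * S.ψ a * g * (g⁻¹ * S.ψ b * g) by group]
        exact S.K.mul_mem ha' hb'⟩
    · rintro x hx _ ⟨a, rfl, ha, ha'⟩
      refine ⟨⟨x, (mem_cu.1 hx).1⟩ * a * (⟨x, (mem_cu.1 hx).1⟩)⁻¹, rfl, mul_mem (mul_mem hx ha) (inv_mem hx), ?_⟩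
      obtain ⟨d, i, hi, hd⟩ := S.dec _ (S.back (comm_z' ⟨x, (mem_cu.1 hx).1⟩ (mem_cu.1 hx).2))
      set X : C := ⟨x, (mem_cu.1 hx).1⟩
      rw [map_mul, map_mul, map_inv,
        show g⁻¹ * (S.ψ X * S.ψ a * (S.ψ X)⁻¹) * g =
          g⁻¹ * S.ψ X * g * (g⁻¹ * S.ψ a * g) * (g⁻¹ * S.ψ X * g)⁻¹ by group, hd,
        show S.ψ d * i * (g⁻¹ * S.ψ a * g) * (S.ψ d * i)⁻¹ =
          S.ψ d * (i * (g⁻¹ * S.ψ a * g) * i⁻¹) * (S.ψ d)⁻¹ by group,
        S.comm d _ (S.K.mul_mem (S.K.mul_mem hi ha') (S.K.inv_mem hi)), mul_inv_cancel_right]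
      exact S.K.mul_mem (S.K.mul_mem hi ha') (S.K.inv_mem hi)
    · rcases hor with e | e | e | e
      · exact Or.inl ⟨y, e, e ▸ hy, hK⟩
      · exact Or.inr (Or.inl ⟨y, e, e ▸ hy, hK⟩)
      · exact Or.inr (Or.inr (Or.inl ⟨y, e, e ▸ hy, hK⟩))
      · exact Or.inr (Or.inr (Or.inr ⟨y, e, e ▸ hy, hK⟩))
  have cj : ∀ a b : C, g⁻¹ * S.ψ (a * b) * g = g⁻¹ * S.ψ a * g * (g⁻¹ * S.ψ b * g) := fun a b => by
    rw [map_mul]; group
  have hab : S.ψ da * ia * (S.ψ db * ib) = S.ψ db * ib * (S.ψ da * ia) := by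
    rw [← ea, ← eb, ← cj, ← cj, show A * B = B * A from Subtype.ext (by
      show A.1 * B.1 = B.1 * A.1
      rw [hA', hB', pair_h.comm])]
  have pair : Pair da.1 db.1 := by
    refine ⟨hda, hdb, hda3, hdb3, key hia hib hdb3 hab, fun e => ?_, fun e => ?_, fun e => ?_, fun e => ?_⟩
    · exact hP hAu (by rw [ea, show da = 1 from Subtype.ext e, map_one, one_mul]; exact hia) (Or.inl hA')
    · exact hP hBu (by rw [eb, show db = 1 from Subtype.ext e, map_one, one_mul]; exact hib) (Or.inr (Or.inl hB'))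
    · refine hP (y := A * B) (mul_mem hAu hBu) ?_ (Or.inr (Or.inr (Or.inl (by
        show A.1 * B.1 = _
        rw [hA', hB']))))
      rw [cj, ea, eb, S.mul_dec hia, show da * db = 1 from Subtype.ext e, map_one, one_mul]
      exact S.K.mul_mem hia hib
    · refine hP (y := A * (B * B)) (mul_mem hAu (mul_mem hBu hBu)) ?_ (Or.inr (Or.inr (Or.inr (by
        show A.1 * (B.1 * B.1) = _
        rw [hA', hB']))))
      rw [cj, cj, ea, eb, S.mul_dec hib, S.mul_dec hia, show da * (db * db) = 1 from Subtype.ext e, map_one, one_mul]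
      exact S.K.mul_mem hia (S.K.mul_mem hib hib)
  have hca : ∀ {a : C}, g⁻¹ * r * g * (g⁻¹ * S.ψ a * g) = g⁻¹ * S.ψ a * g * (g⁻¹ * r * g) := fun {a} => by
    calc g⁻¹ * r * g * (g⁻¹ * S.ψ a * g) = g⁻¹ * (r * S.ψ a) * g := by group
      _ = _ := by rw [← S.comm a r hr]; group
  have hka : c.1 * da.1 = da.1 * c.1 := key hj hia hda3 (by rw [← hc, ← ea]; exact hca)
  have hkb : c.1 * db.1 = db.1 * c.1 := key hj hib hdb3 (by rw [← hc, ← eb]; exact hca)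
  have hc2 : c.1 ^ 2 ^ (n + 1) = 1 := by
    have h := S.coord (a := c ^ 2 ^ n) (S.K.pow_mem hj _) (by
      rw [← S.pow_dec hj, ← hc, show g⁻¹ * r * g = g⁻¹ * r * g⁻¹⁻¹ by group, conj_pow, hn]; group) (one_mem _)
    rw [pow_succ, pow_mul, sq]
    rcases h with e | e <;> rw [show c.1 ^ 2 ^ n = (c ^ 2 ^ n : C).1 from rfl, e]
    · rw [one_mul]
    · exact g0_sq
  have he : c.1 * e1 * c.1⁻¹ = e1 ∨ c.1 * e1 * c.1⁻¹ = e1 * τ := by
    have hcm := hcz (S.K_z hr)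
    rw [hc, hz''] at hcm
    rcases S.bracket hj hk' hcm with e | e
    · left
      rw [mul_inv_eq_iff_eq_mul]; exact e
    · right
      rw [show c.1 * e1 = e1 * c.1 * τ from e, mul_assoc e1, mem_C_comm c.2, ← mul_assoc, mul_inv_cancel_right]
  have hfour := nine pair c.2 hc2 hka hkb he
  have finish : ∀ y, y ∈ S.K → y ^ 2 ^ (n + 1) = 1 → g⁻¹ * y * g ∈ S.K → y = 1 :=
    fun y hy hy2 hyK => S.tight g y (n + 1) hg.1 hy hyK hy2
  have small : c.1 = 1 ∨ c.1 = τ → g⁻¹ * r * g ∈ S.K := fun h => by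
    rw [hc]
    refine S.K.mul_mem ?_ hj
    rcases h with e | e
    · rw [show c = 1 from Subtype.ext e, map_one]; exact one_mem _
    · rw [show c = tC from Subtype.ext e]; exact S.zK
  have hr2 : r ^ 2 ^ (n + 1) = 1 := by rw [pow_succ, pow_mul, hn, one_pow]
  have big : c.1 = e1 ∨ c.1 = e1 * τ → r = S.z := fun h => by
    have h' : (c * cel u1C : C).1 = 1 ∨ (c * cel u1C : C).1 = τ := by
      show c.1 * e1 = 1 ∨ c.1 * e1 = τ
      rcases h with e | e <;> rw [e]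
      · exact Or.inl e1_facts.1
      · right; rw [mul_assoc, ← e1_comm, ← mul_assoc, e1_facts.1, one_mul]
    have hrz' : r * S.z = 1 := by
      refine finish (r * S.z) (S.K.mul_mem hr S.zK) ?_ ?_
      · rw [(show Commute r S.z from S.K_z hr).mul_pow, hr2, pow_succ' 2 n, pow_mul S.z, sq, S.z_facts.1,
          one_pow, one_mul]
      · rw [show g⁻¹ * (r * S.z) * g = g⁻¹ * r * g * (g⁻¹ * S.z * g) by group, hc, hz'', S.mul_dec hj]
        refine S.K.mul_mem ?_ (S.K.mul_mem hj hk')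
        rcases h' with e | e
        · rw [show c * cel u1C = 1 from Subtype.ext e, map_one]; exact one_mem _
        · rw [show c * cel u1C = tC from Subtype.ext e]; exact S.zK
    rw [mul_eq_one_iff_eq_inv.1 hrz', inv_eq_of_mul_eq_one_right S.z_facts.1]
  rcases hfour with e | e | e | e
  · exact Or.inl (finish r hr hr2 (small (Or.inl e)))
  · exact Or.inl (finish r hr hr2 (small (Or.inr e)))
  · exact Or.inr (big (Or.inl e))
  · exact Or.inr (big (Or.inr e))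

/-- The elements of two-power order of the centraliser of the cover. -/
theorem two_elements {g : G} (h : S.Conj g) {r : G} (hr : r ∈ S.K) {n : ℕ} (hn : r ^ 2 ^ n = 1) :
    r = 1 ∨ r = S.z := by
  obtain ⟨g', hg', ⟨k, hk, hz'⟩, k', hk', hz''⟩ := S.exists_good h
  have hk2 : k ^ 2 ^ 1 = 1 := by
    have h2 : (g' * S.z * g'⁻¹) ^ 2 = 1 := by rw [conj_pow, sq, S.z_facts.1]; group
    rw [hz', S.pow_dec hk, show cel u1C ^ 2 = 1 from Subtype.ext (by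
      show e1 ^ 2 = 1
      rw [sq, e1_facts.1]), map_one, one_mul] at h2
    exact h2
  have hkz : r * k = k * r := by
    rcases S.trivial_of_comm hg' hk hz' hk' hz'' hk hk2 rfl with e | e <;> rw [e]
    · simp
    · exact S.K_z hr
  exact S.trivial_of_comm hg' hk hz' hk' hz'' hr hn hkz

end Std

end Cfsg.Agent.Spor.Co3Uniq
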