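import Cfsg.Agent.S0814
import Cfsg.Agent.Lib.Spor.Co3Uniq.Main
import Cfsg.Agent.Lib.Spor.Co3Std.Generic
import Cfsg.Prelude.Def_Local

/-!
A standard subgroup that is the double cover of the symplectic group leads to the third Conway group.
-/

set_option autoImplicit false

open Cfsg
open scoped commutatorElement

namespace Cfsg.Agent.Spor.Co3Uniq

universe u v

/-- A perfect central extension of a group with only inner automorphisms has only inner automorphisms. -/
theorem exists_inner {L : Type u} [Group L] (hp : commutator L = ⊤)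
    (hQ : Function.Surjective (MulAut.conj : L ⧸ Subgroup.center L →* MulAut (L ⧸ Subgroup.center L)))
    (α : MulAut L) : ∃ l : L, ∀ x, α x = l * x * l⁻¹ := by
  have hmap : (Subgroup.center L).map (α : L →* L) = Subgroup.center L :=
    Subgroup.characteristic_iff_map_eq.1 inferInstance α
  obtain ⟨q, hq⟩ := hQ (QuotientGroup.congr (Subgroup.center L) (Subgroup.center L) α hmap)
  obtain ⟨l, rfl⟩ := QuotientGroup.mk'_surjective (Subgroup.center L) q
  refine ⟨l, fun x => ?_⟩
  let β : L →* L := (MulAut.conj l⁻¹).toMonoidHom.comp α.toMonoidHom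
  have hβ : ∀ y, QuotientGroup.mk' (Subgroup.center L) (β y) = QuotientGroup.mk' (Subgroup.center L) y := by
    intro y
    have h := DFunLike.congr_fun hq (QuotientGroup.mk' (Subgroup.center L) y)
    rw [MulAut.conj_apply] at h
    have h' : QuotientGroup.mk' (Subgroup.center L) (α y) =
        QuotientGroup.mk' (Subgroup.center L) l * QuotientGroup.mk' (Subgroup.center L) y *
          (QuotientGroup.mk' (Subgroup.center L) l)⁻¹ := h.symm
    show QuotientGroup.mk' (Subgroup.center L) (l⁻¹ * α y * l⁻¹⁻¹) = _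
    rw [map_mul, map_mul, inv_inv, map_inv, h']
    group
  have hfix : commutator L ≤ β.eqLocus (MonoidHom.id L) := by
    refine Subgroup.commutator_le.2 fun a _ b _ => ?_
    show β ⁅a, b⁆ = ⁅a, b⁆
    rw [map_commutatorElement]
    exact comm_eq (s := QuotientGroup.mk' (Subgroup.center L)) (QuotientGroup.ker_mk' _).le (hβ a) (hβ b)
  have hx : l⁻¹ * α x * l⁻¹⁻¹ = x := hfix (hp.symm ▸ Subgroup.mem_top x)
  calc α x = l * (l⁻¹ * α x * l⁻¹⁻¹) * l⁻¹ := by group
    _ = _ := by rw [hx]

/-- All automorphisms of the symplectic group are inner. -/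
theorem inner_psp {F : Type u} [Field F] [Fintype F] (hF : Fintype.card F = 2) {Q : Type v} [Group Q]
    (e : Q ≃* Cfsg.PSp 3 F) : Function.Surjective (MulAut.conj : Q →* MulAut Q) := by
  obtain ⟨e0⟩ := Cfsg.Agent.Classical.SpSix.exists_mulEquiv hF
  let e1 : Q ≃* Classical.SpSix.G0 := e.trans e0.symm
  have : Finite Q := Finite.of_equiv _ e1.symm.toEquiv
  have : Finite (Q → Q) := Pi.finite
  have : Finite (MulAut Q) := Finite.of_injective (fun a : MulAut Q => (a : Q → Q)) DFunLike.coe_injective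
  have hinj : Function.Injective (MulAut.conj : Q →* MulAut Q) := by
    refine (injective_iff_map_eq_one _).2 fun x hx => ?_
    have hc : e1 x ∈ Subgroup.center Classical.SpSix.G0 := Subgroup.mem_center_iff.2 fun y => by
      obtain ⟨y, rfl⟩ := e1.surjective y
      rw [← map_mul, ← map_mul]
      congr 1
      have h := DFunLike.congr_fun hx y
      rw [MulAut.conj_apply, MulAut.one_apply, mul_inv_eq_iff_eq_mul] at h
      exact h.symm
    rw [Classical.SpSix.center_eq_bot, Subgroup.mem_bot] at hc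
    exact e1.injective (hc.trans (map_one e1).symm)
  refine (hinj.bijective_of_nat_card_le ?_).2
  have h := Cfsg.Agent.S0814.result (F := F) 2 1 le_rfl (by rw [hF, pow_one]) 3 (by norm_num) (by norm_num)
  norm_num at h
  rw [Nat.card_congr (MulAut.congr e).toEquiv, h, ← Nat.card_congr e.toEquiv]

/-- The theorem on standard subgroups. -/
theorem isoCo3_of_standard {G : Type u} [Group G] [Finite G] [IsSimpleGroup G] (hG : ¬ IsMulCommutative G)
    (hbal : ∀ t : G, orderOf t = 2 → Cfsg.centralizerPPrimeCore 2 t = ⊥)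
    (L : Subgroup G) (hL : Cfsg.IsStandardSubgroup L) {F : Type v} [Field F] [Fintype F]
    (hF : Fintype.card F = 2)
    (hLX : Nat.card ↥(Subgroup.center ↥L) = 2 ∧ Nonempty (↥L ⧸ Subgroup.center ↥L ≃* Cfsg.PSp 3 F)) :
    Cfsg.Spor.IsoCo3 G := by
  obtain ⟨⟨hperf, -⟩, ⟨-, htight⟩, -, hnorm⟩ := hL
  obtain ⟨h2, ⟨eq⟩⟩ := hLX
  have := Fact.mk Nat.prime_two
  have : Finite C := Nat.finite_of_card_ne_zero (by rw [Cos.Co3Out.C_facts.2]; norm_num)
  obtain ⟨e0⟩ := Cfsg.Agent.Classical.SpSix.exists_mulEquiv hF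
  obtain ⟨ρ, hρ, hρc, hρ2⟩ := exists_rho
  have hpL : commutator ↥L = ⊤ := hperf.commutator_eq_top
  let σ : ↥L →* Classical.SpSix.G0 :=
    ((eq.trans e0.symm).toMonoidHom).comp (QuotientGroup.mk' (Subgroup.center ↥L))
  have hσ : Function.Surjective σ := (eq.trans e0.symm).surjective.comp (QuotientGroup.mk'_surjective _)
  have hker : σ.ker = Subgroup.center ↥L := by
    ext x
    simp [σ]
  obtain ⟨E⟩ := nonempty_equiv ρ σ hρ hσ hρc hker.le perfect_C hpL hρ2 (hker.symm ▸ h2)
  let ψ : C →* G := L.subtype.comp E.toMonoidHom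
  have hψi : Function.Injective ψ := L.subtype_injective.comp E.injective
  have htC1 : tC ≠ 1 := fun e => g0_ne (congrArg Subtype.val e)
  have hEt : E tC ∈ Subgroup.center ↥L := Subgroup.mem_center_iff.2 fun x => by
    obtain ⟨c, rfl⟩ := E.surjective x
    rw [← map_mul, ← map_mul]
    exact congrArg E (Subtype.ext (mem_C_comm c.2))
  have hcen : ∀ x ∈ Subgroup.center ↥L, x = 1 ∨ x = E tC := by
    intro x hx
    by_contra hne
    push Not at hne
    have hz : (⟨E tC, hEt⟩ : Subgroup.center ↥L) ≠ 1 := fun e =>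
      htC1 (E.injective ((congrArg Subtype.val e).trans E.map_one.symm))
    obtain ⟨k, hk⟩ : (⟨x, hx⟩ : Subgroup.center ↥L) ∈ Subgroup.zpowers ⟨E tC, hEt⟩ :=
      zpowers_eq_top_of_prime_card h2 hz ▸ Subgroup.mem_top _
    have hv : E tC ^ k = x := congrArg Subtype.val hk
    have hsq : orderOf (E tC) ∣ 2 := orderOf_dvd_of_pow_eq_one (by
      rw [← map_pow, show tC ^ 2 = 1 from Subtype.ext (by show Cos.Co3Out.g 0 ^ 2 = 1; rw [sq, g0_sq]), map_one])
    rcases Int.even_or_odd k with ⟨m, rfl⟩ | ⟨m, rfl⟩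
    · refine hne.1 ?_
      rw [← hv, ← two_mul, zpow_mul, zpow_ofNat, orderOf_dvd_iff_pow_eq_one.1 hsq, one_zpow]
    · refine hne.2 ?_
      rw [← hv, zpow_add_one, zpow_mul, zpow_ofNat, orderOf_dvd_iff_pow_eq_one.1 hsq, one_zpow, one_mul]
  set K := Subgroup.centralizer (L : Set G) with hK
  have hψL : ∀ c, ψ c ∈ L := fun c => (E c).2
  have hcomm : ∀ c, ∀ k ∈ K, ψ c * k = k * ψ c := fun c k hk => Subgroup.mem_centralizer_iff.1 hk _ (hψL c)
  have hzK : ψ tC ∈ K := Subgroup.mem_centralizer_iff.2 fun x hx => by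
    exact congrArg Subtype.val (Subgroup.mem_center_iff.1 hEt ⟨x, hx⟩)
  have hinter : ∀ c, ψ c ∈ K → c = 1 ∨ c = tC := by
    intro c hc
    have : E c ∈ Subgroup.center ↥L := Subgroup.mem_center_iff.2 fun x =>
      Subtype.ext (Subgroup.mem_centralizer_iff.1 hc x.1 x.2)
    rcases hcen _ this with e | e
    · exact Or.inl (E.injective (e.trans E.map_one.symm))
    · exact Or.inr (E.injective e)
  have hz2 : orderOf (ψ tC) = 2 := by
    refine orderOf_eq_prime ?_ fun e => htC1 (hψi (e.trans (map_one ψ).symm))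
    rw [← map_pow, show tC ^ 2 = 1 from Subtype.ext (by show Cos.Co3Out.g 0 ^ 2 = 1; rw [sq, g0_sq]), map_one]
  have hzN : ∀ y, y * ψ tC = ψ tC * y → y ∈ Subgroup.normalizer (K : Set G) := by
    intro y hy
    by_contra hn
    have hodd := htight y hn
    let w : ↥(K ⊓ K.map (MulAut.conj y).toMonoidHom) :=
      ⟨ψ tC, hzK, ψ tC, hzK, by
        show y * ψ tC * y⁻¹ = ψ tC
        rw [hy, mul_inv_cancel_right]⟩
    have hw : orderOf w = 2 := by rw [← Subgroup.orderOf_coe]; exact hz2
    exact Nat.not_even_iff_odd.2 hodd (even_iff_two_dvd.2 (hw ▸ orderOf_dvd_natCard w))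
  have hQ := inner_psp hF eq
  have hdec : ∀ y, y * ψ tC = ψ tC * y → ∃ c, ∃ k ∈ K, y = ψ c * k := by
    intro y hy
    have hyL : y ∈ Subgroup.normalizer (L : Set G) := by rw [hnorm]; exact hzN y hy
    obtain ⟨l, hl⟩ := exists_inner hpL hQ (L.normalizerMonoidHom ⟨y, hyL⟩)
    obtain ⟨c, rfl⟩ := E.surjective l
    refine ⟨c, (ψ c)⁻¹ * y, Subgroup.mem_centralizer_iff.2 fun x hx => ?_, (mul_inv_cancel_left _ _).symm⟩
    have h : y * x * y⁻¹ = ψ c * x * (ψ c)⁻¹ := congrArg Subtype.val (hl ⟨x, hx⟩)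
    calc x * ((ψ c)⁻¹ * y) = (ψ c)⁻¹ * (ψ c * x * (ψ c)⁻¹) * y := by group
      _ = _ := by rw [← h]; group
  let S : Std G := ⟨ψ, hψi, K, hcomm, hzK, hdec, hinter, by
    intro g r n hg hr hr' hn
    have hgN : g ∉ Subgroup.normalizer (K : Set G) := by
      intro hgn
      rw [← hnorm] at hgn
      refine hg ?_
      have hc : (L.normalizerMonoidHom ⟨g, hgn⟩ : MulAut ↥L) (E tC) ∈ Subgroup.center ↥L :=
        Subgroup.characteristic_iff_map_eq.1 (inferInstance : (Subgroup.center ↥L).Characteristic)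
          (L.normalizerMonoidHom ⟨g, hgn⟩) ▸ ⟨_, hEt, rfl⟩
      rcases hcen _ hc with e | e
      · exact absurd (EmbeddingLike.map_eq_one_iff.1 e) fun e => htC1 (E.injective (e.trans E.map_one.symm))
      · exact congrArg Subtype.val e
    have hodd := htight g hgN
    let w : ↥(K ⊓ K.map (MulAut.conj g).toMonoidHom) :=
      ⟨r, hr, g⁻¹ * r * g, hr', by show g * (g⁻¹ * r * g) * g⁻¹ = r; group⟩
    have hw : orderOf w = 1 := by
      have h1 : orderOf w ∣ 2 ^ n := orderOf_dvd_of_pow_eq_one (Subtype.ext hn)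
      exact Nat.eq_one_of_dvd_coprimes
        ((Nat.Coprime.pow_left n (Nat.coprime_two_left.2 hodd))) h1 (orderOf_dvd_natCard w)
    exact congrArg Subtype.val (orderOf_eq_one_iff.1 hw)⟩
  -- a second conjugate commuting with the involution
  have hZ : Subgroup.center G = ⊥ := by
    rcases Subgroup.Normal.eq_bot_or_eq_top (inferInstance : (Subgroup.center G).Normal) with h | h
    · exact h
    · exact absurd ⟨⟨fun a b => (Subgroup.mem_center_iff.1 (h ▸ Subgroup.mem_top a) b).symm⟩⟩ hG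
  have hO : Cfsg.oddCore G = ⊥ := by
    unfold Cfsg.oddCore
    refine sSup_eq_bot.2 ?_
    rintro N ⟨hN, hco⟩
    rcases hN.eq_bot_or_eq_top with h | h
    · exact h
    · exfalso
      subst h
      rw [Subgroup.card_top, Nat.coprime_two_right] at hco
      exact Nat.not_even_iff_odd.2 hco (even_iff_two_dvd.2 (hz2 ▸ orderOf_dvd_natCard (ψ tC)))
  obtain ⟨g, hg⟩ : ∃ g, S.Conj g := by
    obtain ⟨P, hP⟩ := (IsPGroup.of_card (p := 2) (n := 1) (G := Subgroup.zpowers (ψ tC))
      (by rw [Nat.card_zpowers, hz2, pow_one])).exists_le_sylow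
    have hzP : ψ tC ∈ P := hP (Subgroup.mem_zpowers _)
    obtain ⟨g, hgP, hne⟩ : ∃ g, g * ψ tC * g⁻¹ ∈ P ∧ g * ψ tC * g⁻¹ ≠ ψ tC := by
      by_contra hcon
      push Not at hcon
      obtain ⟨N, hN, hNo, hc⟩ := S0215.result P (ψ tC) hz2 hzP hcon
      rcases hN.eq_bot_or_eq_top with h | h
      · subst h
        refine absurd (hψi ((?_ : ψ tC = 1).trans (map_one ψ).symm)) htC1
        refine Subgroup.mem_bot.1 (hZ ▸ Subgroup.mem_center_iff.2 fun y => ?_)
        have h1 := Subgroup.mem_bot.1 (hc y)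
        rw [mul_inv_eq_one, mul_inv_eq_iff_eq_mul] at h1
        exact h1.symm
      · subst h
        rw [Subgroup.card_top] at hNo
        exact Nat.not_even_iff_odd.2 hNo (even_iff_two_dvd.2 (hz2 ▸ orderOf_dvd_natCard (ψ tC)))
    by_cases hall : g * ψ tC * g⁻¹ * ψ tC = ψ tC * (g * ψ tC * g⁻¹)
    · exact ⟨g, hne, hall⟩
    have : Group.IsNilpotent P := P.2.isNilpotent
    set T : Subgroup P := (Subgroup.centralizer {ψ tC}).subgroupOf P with hT
    have hTtop : T ≠ ⊤ := fun e => hall (Subgroup.mem_centralizer_singleton_iff.1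
      (Subgroup.mem_subgroupOf.1 (e ▸ Subgroup.mem_top (⟨_, hgP⟩ : P))))
    obtain ⟨y, hy, hyT⟩ := SetLike.exists_of_lt
      (Group.normalizerCondition_of_isNilpotent T (lt_top_iff_ne_top.2 hTtop))
    have hzT : (⟨ψ tC, hzP⟩ : P) ∈ T := Subgroup.mem_subgroupOf.2 (Subgroup.mem_centralizer_singleton_iff.2 rfl)
    have hconj := Subgroup.mem_subgroupOf.1 ((Subgroup.mem_normalizer_iff.1 hy _).1 hzT)
    refine ⟨y.1, fun e => hyT (Subgroup.mem_subgroupOf.2 (Subgroup.mem_centralizer_singleton_iff.2 ?_)),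
      Subgroup.mem_centralizer_singleton_iff.1 hconj⟩
    exact mul_inv_eq_iff_eq_mul.1 e
  -- the centraliser of the cover is its centre
  have hKz : ∀ k ∈ K, k = 1 ∨ k = ψ tC := by
    let z' : K := ⟨ψ tC, hzK⟩
    have hz' : z' * z' = 1 := Subtype.ext S.z_facts.1
    let Z := Subgroup.zpowers z'
    have hZmem : ∀ x : K, (x = 1 ∨ x = z') ↔ x ∈ Z := fun x => by
      constructor
      · rintro (rfl | rfl)
        · exact one_mem _
        · exact Subgroup.mem_zpowers _
      · rintro ⟨m, rfl⟩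
        rcases Int.even_or_odd m with ⟨i, rfl⟩ | ⟨i, rfl⟩
        · exact Or.inl (by show z' ^ (i + i) = 1; rw [← two_mul, zpow_mul, zpow_ofNat, sq, hz', one_zpow])
        · exact Or.inr (by show z' ^ (2 * i + 1) = z'; rw [zpow_add_one, zpow_mul, zpow_ofNat, sq, hz', one_zpow, one_mul])
    have : Z.Normal := ⟨fun a ha b => by
      rw [(show b * a = a * b from (hZmem a).2 ha |>.elim (fun e => by simp [e]) fun e => by
        subst e; exact Subtype.ext (S.K_z b.2)), mul_inv_cancel_right]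
      exact ha⟩
    have htwo : ∀ x : K, ∀ n, x ^ 2 ^ n = 1 → x ∈ Z := fun x n hx => by
      rcases S.two_elements hg x.2 (n := n) (congrArg Subtype.val hx) with e | e
      · exact (hZmem x).1 (Or.inl (Subtype.ext e))
      · exact (hZmem x).1 (Or.inr (Subtype.ext e))
    have hcZ : Nat.card Z = 2 := by
      rw [Nat.card_zpowers, ← Subgroup.orderOf_coe]; exact hz2
    have hodd : Odd Z.index := by
      rw [← Nat.not_even_iff_odd, even_iff_two_dvd, Subgroup.index]
      intro h
      obtain ⟨q, hq⟩ := exists_prime_orderOf_dvd_card' (G := K ⧸ Z) 2 h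
      obtain ⟨x, rfl⟩ := QuotientGroup.mk'_surjective Z q
      have hx2 : x ^ 2 ∈ Z := by
        rw [← QuotientGroup.eq_one_iff, ← QuotientGroup.mk'_apply, map_pow, ← hq, pow_orderOf_eq_one]
      have hx : x ∈ Z := htwo x 2 (by
        rcases (hZmem _).2 hx2 with e | e <;> rw [show (2 : ℕ) ^ 2 = 2 * 2 from rfl, pow_mul, e]
        · exact one_pow 2
        · rw [sq, hz'])
      rw [QuotientGroup.mk'_apply, (QuotientGroup.eq_one_iff x).2 hx, orderOf_one] at hq
      norm_num at hq
    obtain ⟨H, hH⟩ := Subgroup.exists_right_complement'_of_coprime (N := Z) (by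
      rw [hcZ]; exact Nat.coprime_two_left.2 hodd)
    have hHodd : Odd (Nat.card H) := by rw [← hH.symm.index_eq_card]; exact hodd
    have hmemH : ∀ x : K, x ∈ H ↔ Odd (orderOf x) := fun x => by
      refine ⟨fun hx => hHodd.of_dvd_nat (Subgroup.orderOf_dvd_natCard _ hx), fun hx => ?_⟩
      obtain ⟨⟨a, h⟩, rfl⟩ := hH.2 x
      have ha : a.1 * a.1 = 1 := by
        rcases (hZmem a.1).2 a.2 with e | e <;> rw [e]
        · exact one_mul _
        · exact hz'
      have hc : Commute a.1 h.1 := by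
        rcases (hZmem a.1).2 a.2 with e | e <;> rw [e]
        · exact Commute.one_left _
        · exact Subtype.ext (S.K_z h.1.2).symm
      show a.1 * h.1 ∈ H
      obtain ⟨m, hm⟩ := hx
      have h1 : (a.1 * h.1) ^ (2 * (m + 1)) = a.1 * h.1 := by
        rw [show 2 * (m + 1) = 2 * m + 1 + 1 by ring, pow_succ, ← hm, pow_orderOf_eq_one, one_mul]
      rw [← h1, hc.mul_pow, pow_mul a.1, sq, ha, one_pow, one_mul]
      exact H.pow_mem h.2 _
    let Ct := Subgroup.centralizer ({ψ tC} : Set G)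
    let H' : Subgroup Ct := (H.map K.subtype).subgroupOf Ct
    have hH' : H'.Normal := ⟨fun a ha b => by
      obtain ⟨x, hx, hxa⟩ := Subgroup.mem_subgroupOf.1 ha
      have hbK : b.1 * x.1 * b.1⁻¹ ∈ K :=
        (Subgroup.mem_normalizer_iff.1 (hzN b.1 (Subgroup.mem_centralizer_singleton_iff.1 b.2)) x.1).1 x.2
      refine Subgroup.mem_subgroupOf.2 ⟨⟨b.1 * x.1 * b.1⁻¹, hbK⟩, (hmemH _).2 ?_, ?_⟩
      · rw [← Subgroup.orderOf_coe]
        show Odd (orderOf (b.1 * x.1 * b.1⁻¹))
        rw [← MulAut.conj_apply, MulEquiv.orderOf_eq, Subgroup.orderOf_coe]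
        exact (hmemH x).1 hx
      · show b.1 * x.1 * b.1⁻¹ = b.1 * a.1 * b.1⁻¹
        rw [show (x.1 : G) = a.1 from hxa]⟩
    have hle : H.map K.subtype ≤ Ct := by
      rintro _ ⟨x, -, rfl⟩
      exact Subgroup.mem_centralizer_singleton_iff.2 (S.K_z x.2)
    have hcard : Nat.card H' = Nat.card H := by
      rw [Nat.card_congr (Subgroup.subgroupOfEquivOfLe hle).toEquiv,
        Subgroup.card_map_of_injective K.subtype_injective]
    have hH'b : H' = ⊥ := by
      have h := hbal (ψ tC) hz2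
      rw [Cfsg.centralizerPPrimeCore, Subgroup.map_eq_bot_iff_of_injective _ Ct.subtype_injective] at h
      refine le_bot_iff.1 (h ▸ ?_)
      exact le_sSup ⟨hH', by rw [hcard]; exact Nat.coprime_two_right.2 hHodd⟩
    have hH1 : Nat.card H = 1 := by rw [← hcard, hH'b, Subgroup.card_bot]
    intro k hk
    have hKcard : Nat.card K = 2 := by rw [← hH.card_mul, hcZ, hH1]
    have htop : Z = ⊤ := Subgroup.eq_top_of_card_eq Z (hcZ.trans hKcard.symm)
    rcases (hZmem ⟨k, hk⟩).2 (htop ▸ Subgroup.mem_top _) with e | e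
    · exact Or.inl (congrArg Subtype.val e)
    · exact Or.inr (congrArg Subtype.val e)
  have hrange : ψ.range = Subgroup.centralizer ({ψ tC} : Set G) := by
    refine le_antisymm ?_ fun y hy => ?_
    · rintro _ ⟨c, rfl⟩
      exact Subgroup.mem_centralizer_singleton_iff.2 (S.psi_z c)
    · obtain ⟨c, k, hk, rfl⟩ := hdec y (Subgroup.mem_centralizer_singleton_iff.1 hy)
      rcases hKz k hk with e | e
      · exact ⟨c, by rw [e, mul_one]⟩
      · exact ⟨c * tC, by rw [map_mul, e]⟩
  exact isoCo3_of_sys ⟨ψ, hψi, hrange⟩ hO hZ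

end Cfsg.Agent.Spor.Co3Uniq
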